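import Groth.Agent.H23.MulEtale
import Groth.Agent.AlgSpDec.SmoothLocDim
import Groth.Agent.GrpSchLib.FibreDimGrp

/-!
Multiplication by an invertible integer on a smooth commutative group scheme is etale.
-/

set_option autoImplicit false
set_option linter.style.haveILetI false
set_option backward.isDefEq.respectTransparency false

universe u

open CategoryTheory Limits AlgebraicGeometry MonoidalCategory CartesianMonoidalCategory MonObj
open scoped TensorProduct

namespace Groth.Agent.SmoothGrpTors

/-- The rank of differentials of a smooth morphism is the dimension of the fibre. -/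
theorem rk_eq_fibreDimAt {X S : Scheme.{u}} (p : X ⟶ S) [Smooth p] (x : X) :
    FlatMor.fibreDimAt p x = (H23.MulEtale.rk p x : WithBot ℕ∞) := by
  obtain ⟨U, hU, V, hV, hx, e, h⟩ := Smooth.exists_isStandardSmooth p x
  rw [H23.MulEtale.rk_eq_finrank p hU hV e h hx]
  letI := (p.appLE U V e).hom.toAlgebra
  haveI : Algebra.IsStandardSmooth Γ(S, U) Γ(X, V) := h
  haveI : Nonempty V := ⟨⟨x, hx⟩⟩
  obtain ⟨n, hn⟩ := FrobSmoothLib.exists_relativeDimension (A := Γ(S, U)) (C := Γ(X, V))
  haveI := hn
  haveI : SmoothOfRelativeDimension n (Spec.map (p.appLE U V e)) :=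
    (HasRingHomProperty.Spec_iff (P := @SmoothOfRelativeDimension n)).2
      (RingHom.locally_of RingHom.isStandardSmoothOfRelativeDimension_respectsIso _
        (by rw [RingHom.IsStandardSmoothOfRelativeDimension]; exact hn))
  have hj : SmoothOfRelativeDimension n (hV.fromSpec ≫ p) := by
    rw [← hU.SpecMap_appLE_fromSpec p hV e]
    exact smoothOfRelativeDimension_comp (n := n) (m := 0) _ _
  obtain ⟨v, rfl⟩ : x ∈ Set.range hV.fromSpec := by rw [hV.range_fromSpec]; exact hx
  rw [← AlgSpDec.fibreDimAt_etale_comp hV.fromSpec p v, S2768.result n (hV.fromSpec ≫ p) v]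
  have hr := Algebra.IsStandardSmoothOfRelativeDimension.rank_kaehlerDifferential (R := Γ(S, U)) (S := Γ(X, V)) n
  rw [Module.finrank_eq_of_rank_eq hr]

variable {S : Scheme.{u}} {X : Over S} [GrpObj X] [IsCommMonObj X]

theorem formallyUnramified_fibre [LocallyOfFiniteType X.hom] (n : ℕ) (hn : IsUnit (n : Γ(S, ⊤))) (y : X.left) :
    FormallyUnramified ((𝟙 X ^ n : X ⟶ X).left.fiberToSpecResidueField y) := by
  let L := AlgebraicClosure (X.left.residueField y)
  let g : Spec (CommRingCat.of L) ⟶ Spec (X.left.residueField y) :=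
    Spec.map (CommRingCat.ofHom (algebraMap (X.left.residueField y) L))
  let r := X.left.fromSpecResidueField y
  let q := g ≫ r
  let σ := q ≫ X.hom
  let Xk := (Over.pullback σ).obj X
  letI : GrpObj Xk := Functor.grpObjObj
  have : LocallyOfFiniteType Xk.hom := inferInstanceAs (LocallyOfFiniteType (pullback.snd X.hom σ))
  have : IsCommMonObj Xk := ((Over.pullback σ).mapCommMon.obj <| CommMon.mk X).comm
  have hnL : (n : L) ≠ 0 := by
    have h := hn.map ((σ.appTop ≫ (Scheme.ΓSpecIso (CommRingCat.of L)).hom).hom)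
    rw [map_natCast] at h
    exact h.ne_zero
  set f := (𝟙 X ^ n : X ⟶ X).left
  let fL := ((Over.pullback σ).map (𝟙 X ^ n)).left
  have hfL : FormallyUnramified fL := by
    show FormallyUnramified ((Over.pullback σ).map (𝟙 X ^ n)).left
    rw [H23.MulEtale.map_pow σ n]
    exact H23.MulTangent.formallyUnramified_pow Xk n hnL
  let qk : Spec (CommRingCat.of L) ⟶ pullback X.hom σ := pullback.lift q (𝟙 _) (Category.id_comp _).symm
  have hqk : qk ≫ pullback.fst X.hom σ = q := pullback.lift_fst _ _ _
  have h1 : IsPullback (pullback.fst fL qk ≫ pullback.fst X.hom σ) (pullback.snd fL qk) f q := by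
    have := (IsPullback.of_hasPullback fL qk).paste_horiz (H23.MulEtale.isPullback_map σ (𝟙 X ^ n))
    rwa [hqk] at this
  have h2 : FormallyUnramified (pullback.snd f q) := by
    have h := MorphismProperty.pullback_snd (P := @FormallyUnramified) fL qk hfL
    rw [← h1.isoPullback_hom_snd] at h
    exact (MorphismProperty.cancel_left_of_respectsIso @FormallyUnramified _ _).1 h
  have h3 : FormallyUnramified (pullback.snd (pullback.snd f r) g) := by
    have e := pullbackLeftPullbackSndIso_hom_snd f r g
    rw [← e]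
    exact (MorphismProperty.cancel_left_of_respectsIso @FormallyUnramified _ _).2 h2
  have : Surjective g := ⟨fun p => ⟨IsLocalRing.closedPoint L, @Subsingleton.elim (PrimeSpectrum (X.left.residueField y)) _ _ _⟩⟩
  have : Flat g := by
    rw [HasRingHomProperty.Spec_iff (P := @Flat)]
    show (algebraMap (X.left.residueField y) L).Flat
    rw [RingHom.flat_algebraMap_iff]
    infer_instance
  exact MorphismProperty.of_pullback_snd_of_descendsAlong (Q := @Surjective ⊓ @Flat ⊓ @QuasiCompact)
    (g := g) ⟨⟨inferInstance, inferInstance⟩, inferInstance⟩ h3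

/-- On a smooth commutative group scheme, multiplication by an invertible integer is etale. -/
theorem etale_pow [Smooth X.hom] (n : ℕ) (hn : IsUnit (n : Γ(S, ⊤))) : Etale (𝟙 X ^ n : X ⟶ X).left := by
  haveI : LocallyOfFiniteType (𝟙 X ^ n : X ⟶ X).left := by
    haveI : LocallyOfFiniteType ((𝟙 X ^ n : X ⟶ X).left ≫ X.hom) := by rw [Over.w]; infer_instance
    exact locallyOfFiniteType_of_comp _ X.hom
  haveI : FormallyUnramified (𝟙 X ^ n : X ⟶ X).left :=
    GrpSchLib.formallyUnramified_of_fibres _ (formallyUnramified_fibre n hn)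
  refine H23.MulEtale.etale_of_rk_eq X.hom (𝟙 X ^ n : X ⟶ X).left X.hom (Over.w _) fun x => ?_
  have h1 := rk_eq_fibreDimAt X.hom x
  have h2 := rk_eq_fibreDimAt X.hom ((𝟙 X ^ n : X ⟶ X).left x)
  rw [GrpSchLib.FibreDimGrp.fibreDimAt_eq] at h1 h2
  have hx : X.hom ((𝟙 X ^ n : X ⟶ X).left x) = X.hom x := by rw [← Scheme.Hom.comp_apply, Over.w]
  rw [hx, h1] at h2
  exact_mod_cast h2

end Groth.Agent.SmoothGrpTors
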